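import Groth.Agent.Lib.FibreTop.FiniteFactor
import Groth.Agent.Lib.SchPt.Basic
import Mathlib.Topology.KrullDimension
import Mathlib.AlgebraicGeometry.Fiber

/-!
# Quasi-finite separated morphisms with finite fibres over a one-dimensional base are affine
-/

set_option autoImplicit false
set_option linter.style.haveILetI false
set_option backward.isDefEq.respectTransparency.types false
set_option backward.isDefEq.respectTransparency false
universe u

open CategoryTheory Limits AlgebraicGeometry TopologicalSpace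

noncomputable section

namespace Groth.Agent.AffDimOne20

/-- A locally closed set of a locally Noetherian scheme: points of the closure are specializations. -/
theorem exists_specializes {W : Scheme.{u}} [IsLocallyNoetherian W] (U : W.Opens) {C : Set W} (hC : IsClosed C)
    {w : W} (hw : w ∈ closure ((U : Set W) ∩ C)) : ∃ k, (k ∈ U ∧ k ∈ C) ∧ k ⤳ w := by
  let I := Scheme.IdealSheafData.vanishingIdeal (⟨C, hC⟩ : Closeds W)
  have hr : Set.range I.subschemeι = C := by
    rw [Scheme.IdealSheafData.range_subschemeι, Scheme.IdealSheafData.coe_support_vanishingIdeal]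
    rfl
  haveI : IsLocallyNoetherian I.subscheme := LocallyOfFiniteType.isLocallyNoetherian I.subschemeι
  let m := (I.subschemeι ⁻¹ᵁ U).ι ≫ I.subschemeι
  have hm : Set.range m = (U : Set W) ∩ C := by
    rw [Scheme.Hom.comp_base, TopCat.coe_comp, Set.range_comp, Scheme.Opens.range_ι]
    change I.subschemeι '' (I.subschemeι ⁻¹' (U : Set W)) = _
    rw [Set.image_preimage_eq_inter_range, hr]
  rw [← hm] at hw
  obtain ⟨x, hx⟩ := SchPt.exists_specializes_of_mem_closure_range m hw
  exact ⟨_, hm.subset ⟨x, rfl⟩, hx⟩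

/-- In dimension at most one, strict generizations make a point closed. -/
theorem eq_of_specializes {S : Scheme.{u}} (hdim : topologicalKrullDim S ≤ 1) {a b c : S} (hab : a ⤳ b)
    (hne : a ≠ b) (hbc : b ⤳ c) : c = b := by
  by_contra hcb
  let K : S → IrreducibleCloseds S := fun x =>
    ⟨closure {x}, isIrreducible_singleton.closure, isClosed_closure⟩
  have hlt : ∀ {x y : S}, x ⤳ y → x ≠ y → K y < K x := by
    intro x y hxy hne
    refine lt_of_le_of_ne ?_ fun h => hne ?_
    · exact specializes_iff_closure_subset.1 hxy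
    · have h' : closure ({y} : Set S) = closure {x} := congrArg IrreducibleCloseds.carrier h
      exact hxy.antisymm (specializes_iff_closure_subset.2 h'.symm.subset) |>.eq
  let l : LTSeries (IrreducibleCloseds S) :=
    ((RelSeries.singleton _ (K c)).snoc (K b) (by simpa using hlt hbc (fun h => hcb h.symm))).snoc (K a)
      (by simpa using hlt hab hne)
  have h1 : ((2 : ℕ) : WithBot ℕ∞) ≤ topologicalKrullDim S :=
    le_trans (by simp [l]) (Order.LTSeries.length_le_krullDim l)
  have := h1.trans hdim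
  exact absurd this (by norm_cast)

variable {W S : Scheme.{u}} [IsLocallyNoetherian W] [IsLocallyNoetherian S]

/-- Near a boundary point the open is a basic open. -/
theorem exists_affine_nhd (hdim : topologicalKrullDim S ≤ 1) (h : W ⟶ S) (O : W.Opens)
    (hd : ∀ w : W, ∃ η ∈ O, η ⤳ w) (hcl : ∀ w : W, w ∉ O → ∀ η ∈ O, η ⤳ w → h η ≠ h w) (w : W) (hw : w ∉ O) :
    ∃ U : W.Opens, w ∈ U ∧ IsAffineHom (U.ι ⁻¹ᵁ O).ι := by
  classical
  obtain ⟨V, hV, hsV, -⟩ := exists_isAffineOpen_mem_and_subset (X := S) (x := h w) (U := ⊤) trivial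
  obtain ⟨η, hηO, hηw⟩ := hd w
  have hne : h η ≠ h w := hcl w hw η hηO hηw
  have hspec : h η ⤳ h w := hηw.map h.continuous
  have hηV : h η ∈ V := hspec.mem_open V.2 hsV
  let R := Γ(S, V)
  haveI : IsNoetherianRing R := IsLocallyNoetherian.component_noetherian ⟨V, hV⟩
  obtain ⟨p, hp⟩ : ∃ p, hV.fromSpec p = h w := hV.range_fromSpec.symm.subset hsV
  obtain ⟨q, hq⟩ : ∃ q, hV.fromSpec q = h η := hV.range_fromSpec.symm.subset hηV
  have hqp : q.asIdeal ≤ p.asIdeal := (PrimeSpectrum.le_iff_specializes q p).2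
    (hV.fromSpec.isOpenEmbedding.isInducing.specializes_iff.1 (hq ▸ hp ▸ hspec))
  -- an element vanishing at the point, not at the generic points
  obtain ⟨π, hπp, hπ⟩ : ∃ π : R, π ∈ p.asIdeal ∧ ∀ P ∈ minimalPrimes R, π ∉ P := by
    have hfin := minimalPrimes.finite_of_isNoetherianRing (R := R)
    by_contra hall
    push Not at hall
    have hsub : (p.asIdeal : Set R) ⊆ ⋃ P ∈ (hfin.toFinset : Set (Ideal R)), (P : Set R) := fun x hx => by
      obtain ⟨P, hP, hxP⟩ := hall x hx
      exact Set.mem_biUnion (hfin.mem_toFinset.2 hP) hxP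
    obtain ⟨P, hP, hle⟩ := (Ideal.subset_union_prime (f := fun P : Ideal R => P) ⊥ ⊥
      fun P hP _ _ => Ideal.minimalPrimes_isPrime (hfin.mem_toFinset.1 hP)).1 hsub
    have hPm := hfin.mem_toFinset.1 hP
    have hPp : P ≤ p.asIdeal := hPm.2 ⟨p.2, bot_le⟩ hle
    have hpq : p.asIdeal ≤ q.asIdeal :=
      (le_antisymm hle hPp).le.trans (hPm.2 ⟨q.2, bot_le⟩ (hqp.trans hle))
    exact hne (by rw [← hq, ← hp, PrimeSpectrum.ext (le_antisymm hqp hpq)])
  let D := S.basicOpen π
  have hDV : D ≤ V := S.basicOpen_le π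
  have hmemD : ∀ r, hV.fromSpec r ∈ D ↔ π ∉ r.asIdeal := fun r => by
    show r ∈ hV.fromSpec ⁻¹ᵁ D ↔ _
    rw [hV.fromSpec_preimage_basicOpen]
    exact PrimeSpectrum.mem_basicOpen π r
  have hwD : h w ∉ D := fun hh => ((hmemD p).1 (hp ▸ hh)) hπp
  have hclosed : ∀ t ∈ V, t ∉ D → ∀ c, t ⤳ c → c = t := by
    intro t htV htD c htc
    obtain ⟨r, rfl⟩ : ∃ r, hV.fromSpec r = t := hV.range_fromSpec.symm.subset htV
    obtain ⟨P, hP, hPle⟩ := Ideal.exists_minimalPrimes_le (I := (⊥ : Ideal R)) (J := r.asIdeal) bot_le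
    let P' : PrimeSpectrum R := ⟨P, Ideal.minimalPrimes_isPrime hP⟩
    have hPr : P' ⤳ r := (PrimeSpectrum.le_iff_specializes P' r).1 hPle
    refine eq_of_specializes hdim (hPr.map hV.fromSpec.continuous) (fun he => ?_) htc
    have he' : P' = r := hV.fromSpec.isOpenEmbedding.injective he
    have hh : π ∈ P'.asIdeal := by rw [he']; exact not_not.1 ((hmemD r).not.1 htD)
    exact hπ P hP hh
  -- the two bad sets
  let HD : W.Opens := h ⁻¹ᵁ D
  have hK : w ∉ closure (((O ⊓ h ⁻¹ᵁ V : W.Opens) : Set W) ∩ (HD : Set W)ᶜ) := fun hh => by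
    obtain ⟨k, ⟨⟨hkO, hkV⟩, hkD⟩, hkw⟩ := exists_specializes _ HD.2.isClosed_compl hh
    exact hcl w hw k hkO hkw (hclosed _ hkV hkD _ (hkw.map h.continuous)).symm
  have hZ : w ∉ closure ((HD : Set W) ∩ (O : Set W)ᶜ) := fun hh => by
    obtain ⟨z, ⟨hzD, hzO⟩, hzw⟩ := exists_specializes _ O.2.isClosed_compl hh
    obtain ⟨η', hη', hη'z⟩ := hd z
    have := eq_of_specializes hdim (hη'z.map h.continuous) (hcl z hzO η' hη' hη'z) (hzw.map h.continuous)
    exact hwD (this ▸ hzD)
  let U : W.Opens := h ⁻¹ᵁ V ⊓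
    ⟨(closure (((O ⊓ h ⁻¹ᵁ V : W.Opens) : Set W) ∩ (HD : Set W)ᶜ))ᶜ, isClosed_closure.isOpen_compl⟩ ⊓
    ⟨(closure ((HD : Set W) ∩ (O : Set W)ᶜ))ᶜ, isClosed_closure.isOpen_compl⟩
  refine ⟨U, ⟨⟨hsV, hK⟩, hZ⟩, ?_⟩
  let g : (U : Scheme.{u}) ⟶ V := IsOpenImmersion.lift V.ι (U.ι ≫ h) (by
    rintro _ ⟨z, rfl⟩
    rw [Scheme.Opens.range_ι]
    exact z.2.1.1)
  have hg : g ≫ V.ι = U.ι ≫ h := IsOpenImmersion.lift_fac _ _ _
  have heq : U.ι ⁻¹ᵁ O = g ⁻¹ᵁ (V.ι ⁻¹ᵁ D) := by
    ext z
    have hz : (g ≫ V.ι) z = h (U.ι z) := by rw [hg]; rfl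
    show U.ι z ∈ O ↔ (g ≫ V.ι) z ∈ D
    rw [hz]
    constructor
    · intro hO
      by_contra hD
      exact z.2.1.2 (subset_closure ⟨⟨hO, z.2.1.1⟩, hD⟩)
    · intro hD
      by_contra hO
      exact z.2.2 (subset_closure ⟨hD, hO⟩)
  haveI : IsAffine (V : Scheme.{u}) := hV
  haveI : IsAffine ((V.ι ⁻¹ᵁ D : (V : Scheme.{u}).Opens) : Scheme.{u}) :=
    (hV.basicOpen π).preimage_of_isOpenImmersion V.ι (by rw [Scheme.Opens.opensRange_ι]; exact hDV)
  haveI : IsAffineHom (V.ι ⁻¹ᵁ D).ι := inferInstance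
  rw [heq]
  exact MorphismProperty.of_isPullback (P := @IsAffineHom) (isPullback_morphismRestrict g (V.ι ⁻¹ᵁ D))
    inferInstance

/-- The inclusion of such an open is affine. -/
theorem isAffineHom_ι (hdim : topologicalKrullDim S ≤ 1) (h : W ⟶ S) (O : W.Opens)
    (hd : ∀ w : W, ∃ η ∈ O, η ⤳ w) (hcl : ∀ w : W, w ∉ O → ∀ η ∈ O, η ⤳ w → h η ≠ h w) : IsAffineHom O.ι := by
  classical
  have hU : ∀ w : W, ∃ U : W.Opens, w ∈ U ∧ IsAffineHom (U.ι ⁻¹ᵁ O).ι := fun w => by
    by_cases hw : w ∈ O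
    · refine ⟨O, hw, ?_⟩
      have : O.ι ⁻¹ᵁ O = ⊤ := _root_.eq_top_iff.2 fun z _ => z.2
      rw [this]
      haveI : IsIso (⊤ : (O : Scheme.{u}).Opens).ι := (Scheme.topIso _).isIso_hom
      infer_instance
    · exact exists_affine_nhd hdim h O hd hcl w hw
  choose U hU₁ hU₂ using hU
  refine IsZariskiLocalAtTarget.of_iSup_eq_top (P := @IsAffineHom) U
    (_root_.eq_top_iff.2 fun w _ => TopologicalSpace.Opens.mem_iSup.2 ⟨w, hU₁ w⟩) fun w => ?_
  haveI := hU₂ w
  rw [← MorphismProperty.cancel_left_of_respectsIso @IsAffineHom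
    ((isPullback_morphismRestrict (U w).ι O).flip.isoIsPullback _ _ (isPullback_morphismRestrict O.ι (U w))).hom]
  simpa

/-- The criterion over an affine target. -/
theorem isAffineHom_of_affine (hdim : topologicalKrullDim S ≤ 1) {X T : Scheme.{u}} [IsAffine T]
    [IsLocallyNoetherian T] (f : X ⟶ T) [QuasiCompact f] [LocallyQuasiFinite f] [LocallyOfFiniteType f]
    [IsSeparated f] (g : T ⟶ S) (hfin : ∀ s : S, IsFinite (pullback.snd f (g.fiberι s))) : IsAffineHom f := by
  obtain ⟨Z, j, π, hj, hπ, -, hjπ⟩ := FibreTop.exists_immersion_finite f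
  haveI : QuasiCompact (j ≫ π) := by rw [hjπ]; infer_instance
  haveI : QuasiCompact j := QuasiCompact.of_comp j π
  let a := j.toImage
  let q : j.image ⟶ T := j.imageι ≫ π
  have haq : a ≫ q = f := by rw [← Category.assoc, Scheme.Hom.toImage_imageι, hjπ]
  haveI : IsFinite q := inferInstance
  haveI : IsLocallyNoetherian j.image := LocallyOfFiniteType.isLocallyNoetherian q
  haveI : IsOpenImmersion a := inferInstanceAs (IsOpenImmersion j.toImage)
  haveI : QuasiCompact a := inferInstanceAs (QuasiCompact j.toImage)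
  haveI : IsAffineHom a.opensRange.ι := by
    refine isAffineHom_ι hdim (q ≫ g) a.opensRange (fun w => ?_) fun w hw η hη hηw heq => ?_
    · obtain ⟨x, hx⟩ := SchPt.exists_specializes_of_mem_closure_range a (y := w)
        (by
          haveI : IsDominant a := inferInstanceAs (IsDominant j.toImage)
          rw [a.denseRange.closure_range]
          trivial)
      exact ⟨a x, ⟨x, rfl⟩, hx⟩
    · obtain ⟨x, rfl⟩ := hη
      let s := g (q w)
      have hs : g (q (a x)) = s := heq
      obtain ⟨t, ht⟩ : q w ∈ Set.range (g.fiberι s) := by rw [g.range_fiberι]; rfl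
      obtain ⟨t', ht'⟩ : q (a x) ∈ Set.range (g.fiberι s) := by rw [g.range_fiberι]; exact hs
      let α : pullback f (g.fiberι s) ⟶ pullback q (g.fiberι s) :=
        pullback.lift (pullback.fst _ _ ≫ a) (pullback.snd _ _) (by rw [Category.assoc, haq, pullback.condition])
      haveI : IsFinite (α ≫ pullback.snd q (g.fiberι s)) := by rw [pullback.lift_snd]; exact hfin s
      haveI : IsFinite α := IsFinite.of_comp α (pullback.snd q (g.fiberι s))
      obtain ⟨x', hx', -⟩ := Scheme.Pullback.exists_preimage_pullback (f := f) (g := g.fiberι s) x t'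
        ((congrArg (fun m : X ⟶ T => m x) haq).symm.trans ht'.symm)
      obtain ⟨w', hw', -⟩ := Scheme.Pullback.exists_preimage_pullback (f := q) (g := g.fiberι s) w t ht.symm
      haveI : IsPreimmersion (pullback.fst q (g.fiberι s)) := inferInstance
      have hαx : pullback.fst q (g.fiberι s) (α x') = a x := by
        rw [← Scheme.Hom.comp_apply, pullback.lift_fst, Scheme.Hom.comp_apply, hx']
      have hsp : α x' ⤳ w' :=
        (pullback.fst q (g.fiberι s)).isEmbedding.isInducing.specializes_iff.1 (by rw [hαx, hw']; exact hηw)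
      obtain ⟨y, hy⟩ := hsp.mem_closed α.isClosedMap.isClosed_range ⟨x', rfl⟩
      refine hw ⟨pullback.fst f (g.fiberι s) y, ?_⟩
      rw [← hw', ← hy, ← Scheme.Hom.comp_apply, ← Scheme.Hom.comp_apply, pullback.lift_fst]
  rw [← haq, ← a.isoOpensRange_hom_ι]
  infer_instance

end Groth.Agent.AffDimOne20
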